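import Groth.Prelude.Def_NonAbH2
import Mathlib.CategoryTheory.Sites.SubcanonicalOver
import Mathlib.AlgebraicGeometry.Sites.Fpqc

/-! descent along morphisms with local sections -/

set_option autoImplicit false
universe u

open CategoryTheory CategoryTheory.Limits MonoidalCategory CartesianMonoidalCategory MonObj AlgebraicGeometry

namespace BiextRigid

variable {S : Scheme.{u}}

/-- the sieve of morphisms factoring through `w` -/
def factorSieve {A B : Over S} (w : A ⟶ B) : Sieve B where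
  arrows _ q := ∃ a, a ≫ w = q
  downward_closed := by
    rintro Y Z q ⟨a, rfl⟩ g
    exact ⟨g ≫ a, Category.assoc _ _ _⟩

/-- `w` has fppf local sections -/
def LocEpi {A B : Over S} (w : A ⟶ B) : Prop :=
  factorSieve w ∈ (Scheme.fppfTopology.over S) B

theorem locEpi_of_isLocallyTrivialFor {A B : Over S} (w : A ⟶ B)
    (h : NonAbH1.IsLocallyTrivialFor Scheme.fppfPrecoverage (Over.mk w.left : Over B.left)) : LocEpi w := by
  obtain ⟨R, hR, hsec⟩ := h
  rw [LocEpi, GrothendieckTopology.mem_over_iff]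
  refine GrothendieckTopology.superset_covering _ ?_
    (Precoverage.generate_mem_toGrothendieck hR)
  rw [Sieve.generate_le_iff]
  intro Z f hf
  obtain ⟨s, hs⟩ := hsec f hf
  rw [Sieve.overEquiv_iff]
  exact ⟨Over.homMk s (by
    show s ≫ A.hom = f ≫ B.hom
    rw [← hs]
    show _ = (s ≫ w.left) ≫ B.hom
    rw [Category.assoc, Over.w w]), Over.OverMorphism.ext hs⟩

theorem LocEpi.hom_ext {A B G : Over S} {w : A ⟶ B} (hw : LocEpi w) {a b : B ⟶ G}
    (h : w ≫ a = w ≫ b) : a = b := by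
  refine ((GrothendieckTopology.Subcanonical.isSheaf_of_isRepresentable
    (J := Scheme.fppfTopology.over S) (CategoryTheory.yoneda.obj G)) _ hw).isSeparatedFor.ext ?_
  rintro Y q ⟨c, rfl⟩
  show (c ≫ w) ≫ a = (c ≫ w) ≫ b
  rw [Category.assoc, h, Category.assoc]

theorem LocEpi.desc {A B G : Over S} {w : A ⟶ B} (hw : LocEpi w) (d : A ⟶ G)
    (hd : ∀ {T : Over S} (a a' : T ⟶ A), a ≫ w = a' ≫ w → a ≫ d = a' ≫ d) :
    ∃ c : B ⟶ G, w ≫ c = d := by
  classical
  let x : Presieve.FamilyOfElements (CategoryTheory.yoneda.obj G) (factorSieve w).arrows :=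
    fun Y q hq => hq.choose ≫ d
  have hx : x.Compatible := by
    intro Y₁ Y₂ Z g₁ g₂ f₁ f₂ h₁ h₂ hg
    show g₁ ≫ h₁.choose ≫ d = g₂ ≫ h₂.choose ≫ d
    rw [← Category.assoc, ← Category.assoc]
    apply hd
    rw [Category.assoc, Category.assoc, h₁.choose_spec, h₂.choose_spec, hg]
  obtain ⟨c, hc, -⟩ := (GrothendieckTopology.Subcanonical.isSheaf_of_isRepresentable
    (J := Scheme.fppfTopology.over S) (CategoryTheory.yoneda.obj G)) _ hw x hx
  refine ⟨c, ?_⟩
  have := hc w ⟨𝟙 A, Category.id_comp w⟩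
  refine this.trans (hd _ (𝟙 A) ?_ |>.trans (Category.id_comp d))
  rw [(show ∃ a, a ≫ w = w from ⟨𝟙 A, Category.id_comp w⟩).choose_spec, Category.id_comp]

theorem LocEpi.tensor {A B A' B' : Over S} {w : A ⟶ B} {w' : A' ⟶ B'} (hw : LocEpi w) (hw' : LocEpi w') :
    LocEpi (w ⊗ₘ w') := by
  refine GrothendieckTopology.superset_covering _ ?_
    (GrothendieckTopology.intersection_covering _
      (GrothendieckTopology.pullback_stable _ (fst B B') hw)
      (GrothendieckTopology.pullback_stable _ (snd B B') hw'))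
  rintro Y q ⟨⟨a, ha⟩, ⟨b, hb⟩⟩
  refine ⟨lift a b, ?_⟩
  apply CartesianMonoidalCategory.hom_ext
  · simp [ha]
  · simp [hb]

end BiextRigid

theorem BiextRigid.lift_whisker_mul {S : Scheme.{u}} {T G E : Over S} [GrpObj E] (u : G ⟶ E) (x : T ⟶ E) (g : T ⟶ G) :
    lift x g ≫ (E ◁ u) ≫ μ[E] = x * (g ≫ u) := by
  rw [← Category.assoc, lift_whiskerLeft]
  rfl
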